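import Groth.Agent.EtShLib.DescCons
import Groth.Agent.EtShLib.Constructible

/-! Constructibility descends along surjective morphisms locally of finite presentation. -/

set_option autoImplicit false
set_option linter.style.haveILetI false
universe u

open CategoryTheory CategoryTheory.Limits AlgebraicGeometry Opposite Topology

namespace Groth.Agent.EtShLib

theorem isCons_of_pull_surjective_lfp {X Y : Scheme.{u}} (f : X ⟶ Y) [Surjective f]
    [LocallyOfFinitePresentation f] {F : EtCoh.Ab Y}
    (hF : IsCons (A := AddCommGrpCat.{u + 1}) FinP ((pullA f AddCommGrpCat.{u + 1}).obj F)) :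
    IsCons (A := AddCommGrpCat.{u + 1}) FinP F := by
  refine IsCons.of_open_cover (A := AddCommGrpCat.{u + 1}) (P := FinP) (fun V : Y.affineOpens => V.1)
    (iSup_affineOpens_eq_top Y) fun V => ?_
  have hV : IsAffineOpen V.1 := V.2
  haveI : IsAffine (V.1 : Scheme.{u}) := hV
  let p : pullback V.1.ι f ⟶ (V.1 : Scheme.{u}) := pullback.fst _ _
  let q : pullback V.1.ι f ⟶ X := pullback.snd _ _
  haveI : LocallyOfFinitePresentation p := inferInstance
  haveI : Surjective p := inferInstance
  have hex : ∀ v : (V.1 : Scheme.{u}), ∃ W : (pullback V.1.ι f).Opens, IsAffineOpen W ∧ v ∈ p '' (W : Set _) := by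
    intro v
    obtain ⟨x, hx⟩ := p.surjective v
    obtain ⟨W, hW, hxW, -⟩ := exists_isAffineOpen_mem_and_subset (x := x)
      (U := (⊤ : (pullback V.1.ι f).Opens)) trivial
    exact ⟨W, hW, x, hxW, hx⟩
  choose W hW hv using hex
  have hC : ∀ v, IsConstructible (p '' (W v : Set _)) := fun v => by
    haveI : IsAffine (W v : Scheme.{u}) := hW v
    haveI : LocallyOfFinitePresentation ((W v).ι ≫ p) := inferInstance
    haveI : QuasiCompact ((W v).ι ≫ p) := quasiCompact_of_compactSpace _
    have := ((W v).ι ≫ p).isConstructible_image IsConstructible.univ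
    rwa [Set.image_univ, Scheme.Hom.comp_base, TopCat.coe_comp, Set.range_comp, Scheme.Opens.range_ι] at this
  obtain ⟨t, ht⟩ := exists_finite_subcover_constructible (fun v => p '' (W v : Set _)) hC
    (Set.eq_univ_of_forall fun v => Set.mem_iUnion.2 ⟨v, hv v⟩)
  haveI : ∀ i : t, IsAffine (W i.1 : Scheme.{u}) := fun i => hW i.1
  let X' : Scheme.{u} := ∐ fun i : t => (W i.1 : Scheme.{u})
  let b : X' ⟶ (V.1 : Scheme.{u}) := Sigma.desc fun i : t => (W i.1).ι ≫ p
  let a : X' ⟶ X := Sigma.desc fun i : t => (W i.1).ι ≫ q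
  have hab : a ≫ f = b ≫ V.1.ι := by
    refine Sigma.hom_ext _ _ fun i => ?_
    simp only [a, b, colimit.ι_desc_assoc, Cofan.mk_ι_app, Category.assoc]
    exact congrArg (fun z => (W i.1).ι ≫ z) pullback.condition.symm
  haveI : Surjective b := ⟨fun v => by
    obtain ⟨i, hi, x, hx, rfl⟩ := Set.mem_iUnion₂.1 (ht.ge (Set.mem_univ v))
    refine ⟨(Sigma.ι (fun i : t => (W i.1 : Scheme.{u})) ⟨i, hi⟩).base ⟨x, hx⟩, ?_⟩
    rw [← Scheme.Hom.comp_apply, colimit.ι_desc]
    rfl⟩
  haveI : CompactSpace ↥X' := inferInstance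
  haveI : QuasiSeparatedSpace ↥X' := inferInstance
  refine isCons_of_pull_surjective b ?_
  exact (((hF.pull (f := a)).of_hom ((pullCompA AddCommGrpCat.{u + 1} a f).hom.app F)).of_hom
    ((pullCongrA AddCommGrpCat.{u + 1} hab).hom.app F)).of_hom
    ((pullCompA AddCommGrpCat.{u + 1} b V.1.ι).inv.app F)

end Groth.Agent.EtShLib
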